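import Groth.Agent.Lib.DepthKer.Reflexive
import Mathlib.RingTheory.Ideal.AssociatedPrime.Localization

/-!
# Maps bijective at primes of small depth
-/

set_option autoImplicit false

universe u

open IsLocalRing

namespace GrothLib.DepthKer

theorem mem_range_of_depth {R : Type u} [CommRing R] [IsNoetherianRing R] [IsLocalRing R]
    {M N : Type u} [AddCommGroup M] [Module R M] [Module.Finite R M] [AddCommGroup N] [Module R N]
    [Module.Finite R N] (φ : M →ₗ[R] N) (hφ : Function.Injective φ) (hM : 2 ≤ LocCoh.depth R M)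
    (hN : maximalIdeal R ∉ associatedPrimes R N) (y : N)
    (hy : ∀ r ∈ maximalIdeal R, r • y ∈ LinearMap.range φ) : y ∈ LinearMap.range φ := by
  obtain ⟨x0, hx0, hx0r⟩ := exists_regular (maximalIdeal R) M (le_trans (by norm_num) hM)
  have hsub : ¬ (maximalIdeal R : Set R) ⊆ ⋃ P ∈ associatedPrimes R M ∪ associatedPrimes R N, (P : Set R) := by
    intro hsub
    obtain ⟨P, hP, hle⟩ := ((maximalIdeal R).subset_union_prime_finite
      ((associatedPrimes.finite R M).union (associatedPrimes.finite R N)) (f := id) 0 0
      fun _ hP _ _ => hP.elim (fun h => h.isPrime) fun h => h.isPrime).1 hsub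
    rcases hP with hP | hP
    · have : x0 ∈ ⋃ p ∈ associatedPrimes R M, (p : Set R) := Set.mem_biUnion hP (hle hx0)
      rw [biUnion_associatedPrimes_eq_compl_regular] at this
      exact this hx0r
    · have hPm : maximalIdeal R = P := (IsLocalRing.maximalIdeal.isMaximal R).eq_of_le hP.isPrime.ne_top hle
      exact hN (hPm ▸ hP)
  obtain ⟨x, hxm, hxU⟩ := Set.not_subset.1 hsub
  have hxM : IsSMulRegular M x := by
    by_contra h
    have h' : x ∈ ⋃ P ∈ associatedPrimes R M, (P : Set R) := by
      rw [biUnion_associatedPrimes_eq_compl_regular]; exact h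
    exact hxU (Set.biUnion_subset_biUnion_left Set.subset_union_left h')
  have hxN : IsSMulRegular N x := by
    by_contra h
    have h' : x ∈ ⋃ P ∈ associatedPrimes R N, (P : Set R) := by
      rw [biUnion_associatedPrimes_eq_compl_regular]; exact h
    exact hxU (Set.biUnion_subset_biUnion_left Set.subset_union_right h')
  have hQ : 1 ≤ LocCoh.idealDepth (maximalIdeal R) (QuotSMulTop x M) := by
    rw [LocCoh.depth, ← GrothLib.Depth.idealDepth_quotSMulTop_add_one _ hxm hxM] at hM
    cases h : LocCoh.idealDepth (maximalIdeal R) (QuotSMulTop x M) with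
    | top => simp
    | coe n =>
      rw [h] at hM
      norm_cast at hM ⊢
      omega
  obtain ⟨z, hzm, hz⟩ := exists_regular _ _ hQ
  obtain ⟨m0, hm0⟩ := hy x hxm
  obtain ⟨mz, hmz⟩ := hy z hzm
  have hq : (Submodule.Quotient.mk m0 : QuotSMulTop x M) = 0 := by
    refine hz.right_eq_zero_of_smul ?_
    rw [← Submodule.Quotient.mk_smul, Submodule.Quotient.mk_eq_zero]
    refine ⟨mz, trivial, hφ ?_⟩
    show φ (x • mz) = φ (z • m0)
    rw [map_smul, map_smul, hm0, hmz, smul_comm]
  obtain ⟨m1, -, hm1⟩ := (Submodule.Quotient.mk_eq_zero _).1 hq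
  refine ⟨m1, hxN ?_⟩
  show x • φ m1 = x • y
  rw [← map_smul, show x • m1 = m0 from hm1, hm0]

theorem exists_annihilator_eq {R : Type u} [CommRing R] [IsNoetherianRing R] {C : Type u}
    [AddCommGroup C] [Module R C] [Nontrivial C] :
    ∃ (p : Ideal R) (y : C), p.IsPrime ∧ p ∈ associatedPrimes R C ∧ ∀ r : R, r • y = 0 ↔ r ∈ p := by
  obtain ⟨p, hp⟩ := associatedPrimes.nonempty R C
  obtain ⟨hpp, f, hf⟩ := (isAssociatedPrime_iff_exists_injective_linearMap _ _).1 ((AssociatedPrimes.mem_iff).1 hp)
  refine ⟨p, f (Ideal.Quotient.mk p 1), hpp, hp, fun r => ?_⟩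
  rw [← map_smul, map_eq_zero_iff f hf, Algebra.smul_def, Ideal.Quotient.algebraMap_eq, ← map_mul, mul_one,
    Ideal.Quotient.eq_zero_iff_mem]

theorem bijective_of_depth_two {R M N : Type u} [CommRing R] [IsNoetherianRing R] [AddCommGroup M]
    [Module R M] [Module.Finite R M] [AddCommGroup N] [Module R N] (φ : M →ₗ[R] N)
    (h : ∀ (p : Ideal R) [p.IsPrime],
      Function.Bijective (LocalizedModule.map p.primeCompl φ) ∨
        (2 ≤ LocCoh.depth (Localization.AtPrime p) (LocalizedModule p.primeCompl M) ∧
          p ∉ associatedPrimes R N)) :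
    Function.Bijective φ := by
  classical
  have hinj : Function.Injective φ := by
    rw [← LinearMap.ker_eq_bot]
    by_contra hne
    haveI : Nontrivial (LinearMap.ker φ) := Submodule.nontrivial_iff_ne_bot.mpr hne
    obtain ⟨p, y, hpp, hp, hy⟩ := exists_annihilator_eq (R := R) (C := LinearMap.ker φ)
    haveI := hpp
    rcases h p with hb | ⟨hd, -⟩
    · have h0 : LocalizedModule.mk (y : M) (1 : p.primeCompl) = 0 := hb.1 (by
        rw [LocalizedModule.map_mk, map_zero, LinearMap.mem_ker.1 y.2, LocalizedModule.zero_mk])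
      rw [← LocalizedModule.zero_mk 1, LocalizedModule.mk_eq] at h0
      obtain ⟨c, hc⟩ := h0
      simp only [one_smul, smul_zero] at hc
      exact c.2 ((hy c).1 (Subtype.ext hc))
    · haveI : IsNoetherianRing (Localization.AtPrime p) :=
        IsLocalization.isNoetherianRing p.primeCompl _ inferInstance
      have hpM : p ∈ associatedPrimes R M :=
        associatedPrimes.subset_of_injective (LinearMap.ker φ).injective_subtype hp
      have hass := Module.associatedPrimes.mem_associatedPrimes_atPrime_of_mem_associatedPrimes hpM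
      obtain ⟨x, hx, hxr⟩ := exists_regular (maximalIdeal (Localization.AtPrime p))
        (LocalizedModule p.primeCompl M) (le_trans (by norm_num) hd)
      have : x ∈ ⋃ q ∈ associatedPrimes (Localization.AtPrime p) (LocalizedModule p.primeCompl M),
          (q : Set (Localization.AtPrime p)) := Set.mem_biUnion hass hx
      rw [biUnion_associatedPrimes_eq_compl_regular] at this
      exact this hxr
  refine ⟨hinj, LinearMap.range_eq_top.1 (by_contra fun hne => ?_)⟩
  haveI : Nontrivial (N ⧸ LinearMap.range φ) := Submodule.Quotient.nontrivial_iff.2 hne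
  obtain ⟨p, yb, hpp, -, hy⟩ := exists_annihilator_eq (R := R) (C := N ⧸ LinearMap.range φ)
  haveI := hpp
  obtain ⟨y, rfl⟩ := Submodule.Quotient.mk_surjective _ yb
  have hnot : LocalizedModule.mk y (1 : p.primeCompl) ∉ LinearMap.range (LocalizedModule.map p.primeCompl φ) := by
    rintro ⟨z, hz⟩
    induction z with
    | h m s =>
      rw [LocalizedModule.map_mk, LocalizedModule.mk_eq] at hz
      obtain ⟨c, hc⟩ := hz
      simp only [one_smul, Submonoid.smul_def, smul_smul] at hc
      refine (mul_mem c.2 s.2 : ((c : R) * s) ∈ p.primeCompl) ((hy _).1 ?_)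
      rw [← Submodule.Quotient.mk_smul, Submodule.Quotient.mk_eq_zero, ← hc, ← map_smul]
      exact ⟨_, rfl⟩
  rcases h p with hb | ⟨hd, hpN⟩
  · exact hnot (hb.2 _)
  · haveI : IsNoetherianRing (Localization.AtPrime p) :=
      IsLocalization.isNoetherianRing p.primeCompl _ inferInstance
    let N' : Submodule R N := LinearMap.range φ ⊔ Submodule.span R {y}
    haveI : Module.Finite R N' := Module.Finite.iff_fg.2
      ((LinearMap.range_eq_map φ ▸ (Module.Finite.fg_top : (⊤ : Submodule R M).FG).map φ).sup
        (Submodule.fg_span_singleton y))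
    let φ' : M →ₗ[R] N' := φ.codRestrict N' fun m => Submodule.mem_sup_left ⟨m, rfl⟩
    let y' : N' := ⟨y, Submodule.mem_sup_right (Submodule.mem_span_singleton_self y)⟩
    have hres := mem_range_of_depth (LocalizedModule.map p.primeCompl φ')
      (LocalizedModule.map_injective _ φ' fun a b hab => hinj (congrArg Subtype.val hab)) hd ?_
      (LocalizedModule.mk y' (1 : p.primeCompl)) ?_
    · obtain ⟨z, hz⟩ := hres
      refine hnot ⟨z, ?_⟩
      induction z with
      | h m s =>
        rw [LocalizedModule.map_mk, LocalizedModule.mk_eq] at hz ⊢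
        obtain ⟨c, hc⟩ := hz
        exact ⟨c, congrArg Subtype.val hc⟩
    · intro hass
      have h1 := Module.associatedPrimes.comap_mem_associatedPrimes_of_mem_associatedPrimes_of_isLocalizedModule_of_fg
        p.primeCompl (LocalizedModule.mkLinearMap p.primeCompl N') _ hass (IsNoetherian.noetherian _)
      rw [show (maximalIdeal (Localization.AtPrime p)).comap (algebraMap R (Localization.AtPrime p)) = p from
        Localization.AtPrime.under_maximalIdeal] at h1
      exact hpN (associatedPrimes.subset_of_injective N'.injective_subtype h1)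
    · intro r hr
      obtain ⟨a, t, rfl⟩ := IsLocalization.exists_mk'_eq p.primeCompl r
      have ha : a ∈ p := (IsLocalization.AtPrime.mk'_mem_maximal_iff (Localization.AtPrime p) p a t).1 hr
      obtain ⟨m, hm⟩ := (Submodule.Quotient.mk_eq_zero _).1 (by
        rw [Submodule.Quotient.mk_smul]; exact (hy a).2 ha : (Submodule.Quotient.mk (a • y) : N ⧸ LinearMap.range φ) = 0)
      refine ⟨IsLocalization.mk' (Localization.AtPrime p) 1 t • LocalizedModule.mk m 1, ?_⟩
      rw [map_smul, LocalizedModule.map_mk, show φ' m = a • y' from Subtype.ext hm,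
        IsLocalization.mk'_eq_mul_mk'_one a t, mul_comm, mul_smul, algebraMap_smul, LocalizedModule.smul'_mk]

theorem bijective_localized_of_isReflexive {R : Type u} [CommRing R] [IsNoetherianRing R] (M : Type u)
    [AddCommGroup M] [Module R M] [Module.Finite R M] (p : Ideal R) [p.IsPrime]
    (hp : Module.IsReflexive (Localization.AtPrime p) (LocalizedModule p.primeCompl M)) :
    Function.Bijective (LocalizedModule.map p.primeCompl (Module.Dual.eval R M)) := by
  obtain ⟨hi, hs⟩ := eval_locally_bijective M p hp
  constructor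
  · rw [injective_iff_map_eq_zero]
    intro z hz
    induction z with
    | h m s =>
      rw [LocalizedModule.map_mk, ← LocalizedModule.zero_mk 1, LocalizedModule.mk_eq] at hz
      obtain ⟨c, hc⟩ := hz
      simp only [one_smul, smul_zero, Submonoid.smul_def, ← map_smul] at hc
      obtain ⟨d, hd, hdc⟩ := hi _ hc
      rw [← LocalizedModule.zero_mk 1, LocalizedModule.mk_eq]
      exact ⟨⟨d, hd⟩ * c, by simp only [one_smul, smul_zero, Submonoid.smul_def, Submonoid.coe_mul, mul_smul]; exact hdc⟩
  · intro z
    induction z with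
    | h ξ s =>
      obtain ⟨c, g, hc, hcg⟩ := hs ξ
      refine ⟨LocalizedModule.mk g (⟨c, hc⟩ * s), ?_⟩
      rw [LocalizedModule.map_mk, LocalizedModule.mk_eq]
      refine ⟨1, ?_⟩
      simp only [one_smul, Submonoid.smul_def, Submonoid.coe_mul, ← hcg, smul_smul]
      rw [mul_comm]

end GrothLib.DepthKer
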