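import Groth.Agent.Lib.Depth.CM
import Mathlib.Algebra.Module.LocalizedModule.Exact
import Mathlib.LinearAlgebra.Dual.Lemmas

/-!
# Depth and Serre's conditions for kernels
-/

set_option autoImplicit false

universe u

open CategoryTheory CategoryTheory.Abelian IsLocalRing

namespace GrothLib.DepthKer

variable {A : Type u} [CommRing A] [IsNoetherianRing A]
  {G E0 E1 : Type u} [AddCommGroup G] [Module A G] [Module.Finite A G]
  [AddCommGroup E0] [Module A E0] [Module.Finite A E0]
  [AddCommGroup E1] [Module A E1] [Module.Finite A E1]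

open GrothLib.Depth in
theorem one_le_of_injective (I : Ideal A) (i : G →ₗ[A] E0) (hi : Function.Injective i)
    (h : 1 ≤ LocCoh.idealDepth I E0) : 1 ≤ LocCoh.idealDepth I G := by
  rw [show (1 : ℕ∞) = ((1 : ℕ) : ℕ∞) by simp, le_idealDepth_iff_ext] at h ⊢
  intro j hj
  obtain rfl : j = 0 := by omega
  haveI := h 0 (by omega)
  haveI : Mono (ModuleCat.ofHom i) := (ModuleCat.mono_iff_injective _).2 hi
  exact (Ext.postcomp_mk₀_injective_of_mono (ModuleCat.of A (A ⧸ I)) (ModuleCat.ofHom i)).subsingleton

open GrothLib.Depth in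
theorem two_le_of_exact (I : Ideal A) (i : G →ₗ[A] E0) (u : E0 →ₗ[A] E1) (hi : Function.Injective i)
    (hex : Function.Exact i u) (h0 : 2 ≤ LocCoh.idealDepth I E0) (h1 : 1 ≤ LocCoh.idealDepth I E1) :
    2 ≤ LocCoh.idealDepth I G := by
  rw [show (2 : ℕ∞) = ((2 : ℕ) : ℕ∞) by simp, le_idealDepth_iff_ext] at h0 ⊢
  rw [show (1 : ℕ∞) = ((1 : ℕ) : ℕ∞) by simp, le_idealDepth_iff_ext] at h1
  let S : ShortComplex (ModuleCat.{u} A) := ShortComplex.moduleCatMk i u.rangeRestrict
    (LinearMap.ext fun x => Subtype.ext (hex.apply_apply_eq_zero x))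
  have hS : S.ShortExact :=
    { exact := (ShortComplex.moduleCat_exact_iff _).2 fun x hx => (hex x).1 (congrArg Subtype.val hx)
      mono_f := (ModuleCat.mono_iff_injective _).2 hi
      epi_g := (ModuleCat.epi_iff_surjective _).2 u.surjective_rangeRestrict }
  haveI hC : Subsingleton (Ext (ModuleCat.of A (A ⧸ I)) S.X₃ 0) := by
    haveI := h1 0 (by omega)
    haveI : Mono (ModuleCat.ofHom (LinearMap.range u).subtype) :=
      (ModuleCat.mono_iff_injective _).2 (LinearMap.range u).injective_subtype
    exact (Ext.postcomp_mk₀_injective_of_mono (ModuleCat.of A (A ⧸ I))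
      (ModuleCat.ofHom (LinearMap.range u).subtype)).subsingleton
  intro j hj
  refine subsingleton_of_forall_eq 0 fun e => ?_
  rcases j with - | j
  · haveI := h0 0 (by omega)
    haveI : Mono (ModuleCat.ofHom i) := (ModuleCat.mono_iff_injective _).2 hi
    exact (Ext.postcomp_mk₀_injective_of_mono (ModuleCat.of A (A ⧸ I)) (ModuleCat.ofHom i)).subsingleton.elim _ _
  · obtain rfl : j = 0 := by omega
    obtain ⟨y, rfl⟩ := Ext.covariant_sequence_exact₁ _ hS e (@Subsingleton.elim _ (h0 1 (by omega)) _ _) rfl
    rw [Subsingleton.elim y 0]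
    exact Ext.zero_comp (ModuleCat.of A (A ⧸ I)) _ _ _ _

open GrothLib.Depth in
theorem le_of_extension (I : Ideal A) (i : G →ₗ[A] E0) (u : E0 →ₗ[A] E1) (hi : Function.Injective i)
    (hu : Function.Surjective u) (hex : Function.Exact i u) (n : ℕ) (h0 : (n : ℕ∞) ≤ LocCoh.idealDepth I G)
    (h1 : (n : ℕ∞) ≤ LocCoh.idealDepth I E1) : (n : ℕ∞) ≤ LocCoh.idealDepth I E0 := by
  rw [le_idealDepth_iff_ext] at h0 h1 ⊢
  let S : ShortComplex (ModuleCat.{u} A) := ShortComplex.moduleCatMk i u hex.linearMap_comp_eq_zero
  have hS : S.ShortExact :=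
    { exact := (ShortComplex.moduleCat_exact_iff _).2 fun x hx => (hex x).1 hx
      mono_f := (ModuleCat.mono_iff_injective _).2 hi
      epi_g := (ModuleCat.epi_iff_surjective _).2 hu }
  intro j hj
  refine subsingleton_of_forall_eq 0 fun e => ?_
  obtain ⟨y, rfl⟩ := Ext.covariant_sequence_exact₂ _ hS e (@Subsingleton.elim _ (h1 j hj) _ _)
  rw [@Subsingleton.elim _ (h0 j hj) y 0]
  exact Ext.zero_comp (ModuleCat.of A (A ⧸ I)) _ _ _ _

theorem le_idealDepth_pi (I : Ideal A) (n : ℕ) (h : (n : ℕ∞) ≤ LocCoh.idealDepth I E0) :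
    ∀ m : ℕ, (n : ℕ∞) ≤ LocCoh.idealDepth I (Fin m → E0) := by
  intro m
  induction m with
  | zero =>
    rw [LocCoh.idealDepth, if_pos (Subsingleton.elim _ _)]
    exact le_top
  | succ m ih =>
    let i : E0 →ₗ[A] (Fin (m + 1) → E0) := LinearMap.single A (fun _ => E0) 0
    let u : (Fin (m + 1) → E0) →ₗ[A] (Fin m → E0) := LinearMap.funLeft A E0 Fin.succ
    refine le_of_extension I i u (fun a b h => by simpa [i] using congrFun h 0)
      (LinearMap.funLeft_surjective_of_injective A E0 _ (Fin.succ_injective m)) (fun x => ?_) n h ih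
    refine ⟨fun hx => ⟨x 0, ?_⟩, ?_⟩
    · funext j
      refine Fin.cases (by simp [i]) (fun k => ?_) j
      simpa [i, u, LinearMap.funLeft] using (congrFun hx k).symm
    · rintro ⟨y, rfl⟩
      funext k
      simp [i, u]

theorem depth_localizedModule_pi (p : Ideal A) [p.IsPrime] (n m : ℕ)
    (h : (n : ℕ∞) ≤ LocCoh.depth (Localization.AtPrime p) (LocalizedModule p.primeCompl E0)) :
    (n : ℕ∞) ≤ LocCoh.depth (Localization.AtPrime p) (LocalizedModule p.primeCompl (Fin m → E0)) := by
  haveI : IsNoetherianRing (Localization.AtPrime p) :=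
    IsLocalization.isNoetherianRing p.primeCompl _ inferInstance
  induction m with
  | zero =>
    rw [LocCoh.depth, LocCoh.idealDepth, if_pos (Subsingleton.elim _ _)]
    exact le_top
  | succ m ih =>
    let i : E0 →ₗ[A] (Fin (m + 1) → E0) := LinearMap.single A (fun _ => E0) 0
    let u : (Fin (m + 1) → E0) →ₗ[A] (Fin m → E0) := LinearMap.funLeft A E0 Fin.succ
    have hex : Function.Exact i u := fun x => by
      refine ⟨fun hx => ⟨x 0, ?_⟩, ?_⟩
      · funext j
        refine Fin.cases (by simp [i]) (fun k => ?_) j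
        simpa [i, u, LinearMap.funLeft] using (congrFun hx k).symm
      · rintro ⟨y, rfl⟩
        funext k
        simp [i, u]
    exact le_of_extension _ (LocalizedModule.map p.primeCompl i) (LocalizedModule.map p.primeCompl u)
      (LocalizedModule.map_injective _ i (fun a b h => by simpa [i] using congrFun h 0))
      (LocalizedModule.map_surjective _ u (LinearMap.funLeft_surjective_of_injective A E0 _ (Fin.succ_injective m)))
      (show Function.Exact (LocalizedModule.map p.primeCompl i) (LocalizedModule.map p.primeCompl u) from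
        LocalizedModule.map_exact _ i u hex) n h ih

theorem dichotomy (d : WithBot ℕ∞) (j : ℕ) : d ≤ j ∨ ((j + 1 : ℕ) : WithBot ℕ∞) ≤ d := by
  induction d using WithBot.recBotCoe with
  | bot => exact Or.inl bot_le
  | coe a =>
    rcases le_or_gt a (j : ℕ∞) with h | h
    · exact Or.inl (WithBot.coe_le_coe.2 h)
    · exact Or.inr (WithBot.coe_le_coe.2 (by exact_mod_cast Order.add_one_le_of_lt h))

theorem hasSk_one_of_injective (i : G →ₗ[A] E0) (hi : Function.Injective i)
    (h : LocCoh.HasSk 1 A E0) : LocCoh.HasSk 1 A G := by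
  intro p _
  haveI : IsNoetherianRing (Localization.AtPrime p) :=
    IsLocalization.isNoetherianRing p.primeCompl _ inferInstance
  have hinj := LocalizedModule.map_injective p.primeCompl i hi
  rcases dichotomy (Module.supportDim (Localization.AtPrime p) (LocalizedModule p.primeCompl G)) 0 with hd | hd
  · exact (min_le_right _ _).trans (hd.trans (WithBot.coe_le_coe.2 zero_le))
  · have h0 := h p
    rw [min_eq_left (hd.trans (Module.supportDim_le_of_injective _ hinj))] at h0
    refine (min_le_left _ _).trans (WithBot.coe_le_coe.2 ?_)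
    exact one_le_of_injective _ _ hinj (by exact_mod_cast WithBot.coe_le_coe.1 h0)

theorem support_localizedModule_mono (hsupp : Module.support A G ⊆ Module.support A E1) (p : Ideal A) [p.IsPrime] :
    Module.support (Localization.AtPrime p) (LocalizedModule p.primeCompl G) ⊆
      Module.support (Localization.AtPrime p) (LocalizedModule p.primeCompl E1) := by
  intro q hq
  let q0 : PrimeSpectrum A := PrimeSpectrum.comap (algebraMap A (Localization.AtPrime p)) q
  have hq0p : ∀ c : p.primeCompl, (c : A) ∉ q0.asIdeal := fun c hc =>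
    q.2.ne_top (q.asIdeal.eq_top_of_isUnit_mem hc (IsLocalization.map_units (Localization.AtPrime p) c))
  obtain ⟨z, hz⟩ := Module.mem_support_iff'.1 hq
  induction z with
  | h g s =>
    have hg : q0 ∈ Module.support A G := by
      refine Module.mem_support_iff'.2 ⟨g, fun r hr h0 => hz (algebraMap A _ r) hr ?_⟩
      rw [algebraMap_smul, LocalizedModule.smul'_mk, h0, LocalizedModule.zero_mk]
    obtain ⟨e, he⟩ := Module.mem_support_iff'.1 (hsupp hg)
    refine Module.mem_support_iff'.2 ⟨LocalizedModule.mk e 1, fun r hr h0 => ?_⟩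
    obtain ⟨a, t, rfl⟩ := IsLocalization.exists_mk'_eq p.primeCompl r
    have ha : a ∉ q0.asIdeal := fun ha => hr (by
      rw [IsLocalization.mk'_eq_mul_mk'_one]; exact q.asIdeal.mul_mem_right _ ha)
    have h1 : algebraMap A (Localization.AtPrime p) a • LocalizedModule.mk e (1 : p.primeCompl) = 0 := by
      rw [← IsLocalization.mk'_spec (Localization.AtPrime p) a t, mul_comm, mul_smul, h0, smul_zero]
    rw [algebraMap_smul, LocalizedModule.smul'_mk, ← LocalizedModule.zero_mk 1, LocalizedModule.mk_eq] at h1
    obtain ⟨c, hc⟩ := h1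
    simp only [one_smul, smul_zero, Submonoid.smul_def, smul_smul] at hc
    exact he ((c : A) * a) (fun hca => (q0.2.mem_or_mem hca).elim (hq0p c) ha) hc

theorem hasSk_two_of_exact (i : G →ₗ[A] E0) (u : E0 →ₗ[A] E1) (hi : Function.Injective i)
    (hex : Function.Exact i u) (hsupp : Module.support A G ⊆ Module.support A E1)
    (h1 : LocCoh.HasSk 1 A E1) (h0 : LocCoh.HasSk 2 A E0) : LocCoh.HasSk 2 A G := by
  intro p _
  haveI : IsNoetherianRing (Localization.AtPrime p) :=
    IsLocalization.isNoetherianRing p.primeCompl _ inferInstance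
  have hinj := LocalizedModule.map_injective p.primeCompl i hi
  rcases dichotomy (Module.supportDim (Localization.AtPrime p) (LocalizedModule p.primeCompl G)) 0 with hd | hd
  · exact (min_le_right _ _).trans (hd.trans (WithBot.coe_le_coe.2 zero_le))
  have hE0 := hd.trans (Module.supportDim_le_of_injective _ hinj)
  have h0p := h0 p
  rcases dichotomy (Module.supportDim (Localization.AtPrime p) (LocalizedModule p.primeCompl G)) 1 with hd' | hd'
  · refine (min_le_right _ _).trans (hd'.trans (WithBot.coe_le_coe.2 ?_))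
    rw [Nat.cast_one]
    refine one_le_of_injective _ _ hinj ?_
    have : (1 : WithBot ℕ∞) ≤ (LocCoh.depth (Localization.AtPrime p) (LocalizedModule p.primeCompl E0) : ℕ∞) :=
      le_trans (le_min (by decide) (by simpa using hE0)) h0p
    exact_mod_cast this
  · refine (min_le_left _ _).trans (WithBot.coe_le_coe.2 ?_)
    refine two_le_of_exact _ _ (LocalizedModule.map p.primeCompl u) hinj
      (show Function.Exact (LocalizedModule.map p.primeCompl i) (LocalizedModule.map p.primeCompl u) from
        LocalizedModule.map_exact p.primeCompl i u hex) ?_ ?_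
    · rw [min_eq_left (hd'.trans (Module.supportDim_le_of_injective _ hinj))] at h0p
      exact WithBot.coe_le_coe.1 (le_of_eq_of_le (by norm_num) h0p)
    · have hsd : Module.supportDim (Localization.AtPrime p) (LocalizedModule p.primeCompl G) ≤
          Module.supportDim (Localization.AtPrime p) (LocalizedModule p.primeCompl E1) := by
        refine Order.krullDim_le_of_strictMono (fun q => ⟨q.1, ?_⟩) fun _ _ hab => hab
        exact support_localizedModule_mono hsupp p q.2
      have h1p := h1 p
      rw [min_eq_left (hd.trans hsd)] at h1p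
      exact_mod_cast h1p

theorem exists_presentation (G : Type u) [AddCommGroup G] [Module A G] [Module.Finite A G]
    [Module.IsReflexive A G] :
    ∃ (n m : ℕ) (i : G →ₗ[A] (Fin n → A)) (u : (Fin n → A) →ₗ[A] (Fin (m + 1) → A)),
      Function.Injective i ∧ Function.Exact i u := by
  haveI : IsNoetherian A G := isNoetherian_of_isNoetherianRing_of_finite A G
  haveI : Module.Finite A (Module.Dual A G) := by
    obtain ⟨n, f, hf⟩ := Module.Finite.exists_fin' A G
    exact Module.Finite.of_injective f.dualMap (LinearMap.dualMap_injective_of_surjective hf)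
  obtain ⟨n, π, hπ⟩ := Module.Finite.exists_fin' A (Module.Dual A G)
  obtain ⟨s, hs⟩ := IsNoetherian.noetherian (LinearMap.ker π)
  let e := s.equivFin
  let v : Fin (s.card + 1) → (Fin n → A) := Fin.cons 0 fun k => (e.symm k : Fin n → A)
  let i : G →ₗ[A] (Fin n → A) :=
    LinearMap.pi fun k => (Module.Dual.eval A G).flip (π (Pi.single k 1))
  have hival : ∀ (g : G) (w : Fin n → A), π w g = ∑ k, i g k * w k := by
    intro g w
    conv_lhs => rw [pi_eq_sum_univ' w, map_sum, LinearMap.sum_apply]
    refine Finset.sum_congr rfl fun k _ => ?_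
    rw [map_smul, LinearMap.smul_apply, smul_eq_mul, mul_comm]
    rfl
  let u : (Fin n → A) →ₗ[A] (Fin (s.card + 1) → A) :=
    LinearMap.pi fun k => ∑ l, v k l • LinearMap.proj l
  refine ⟨n, s.card, i, u, fun g g' h => ?_, fun a => ⟨fun ha => ?_, ?_⟩⟩
  · refine (Module.bijective_dual_eval A G).1 (LinearMap.ext fun φ => ?_)
    obtain ⟨w, rfl⟩ := hπ φ
    show π w g = π w g'
    rw [hival, hival, h]
  · have hker : ∀ w ∈ LinearMap.ker π, ∑ k, a k * w k = 0 := by
      intro w hw
      rw [← hs] at hw
      induction hw using Submodule.span_induction with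
      | mem w hw =>
        have := congrFun ha (Fin.succ (e ⟨w, hw⟩))
        simpa [u, v, mul_comm] using this
      | zero => simp
      | add y z _ _ hy hz => simp [mul_add, Finset.sum_add_distrib, hy, hz]
      | smul c y _ hy =>
        simp only [Pi.smul_apply, smul_eq_mul, mul_left_comm (a _) c, ← Finset.mul_sum, hy, mul_zero]
    let ψ : (Fin n → A) →ₗ[A] A := ∑ k, a k • LinearMap.proj k
    have hψ : LinearMap.ker π ≤ LinearMap.ker ψ := fun w hw => by simpa [ψ] using hker w hw
    let χ : Module.Dual A (Module.Dual A G) :=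
      ((LinearMap.ker π).liftQ ψ hψ) ∘ₗ (π.quotKerEquivOfSurjective hπ).symm.toLinearMap
    obtain ⟨g, hg⟩ := (Module.bijective_dual_eval A G).2 χ
    refine ⟨g, funext fun k => ?_⟩
    show Module.Dual.eval A G g (π (Pi.single k 1)) = a k
    rw [hg]
    have : (π.quotKerEquivOfSurjective hπ).symm (π (Pi.single k 1)) = Submodule.Quotient.mk (Pi.single k 1) :=
      (LinearEquiv.symm_apply_eq _).2 rfl
    simp [χ, this, ψ, Pi.single_apply]
  · rintro ⟨g, rfl⟩
    funext k
    have : v k ∈ LinearMap.ker π := by
      refine Fin.cases ?_ (fun l => ?_) k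
      · simp [v]
      · rw [show v l.succ = (e.symm l : Fin n → A) by simp [v], ← hs]
        exact Submodule.subset_span (e.symm l).2
    have h2 := hival g (v k)
    rw [LinearMap.mem_ker.1 this, LinearMap.zero_apply] at h2
    simpa [u, mul_comm] using h2.symm

end GrothLib.DepthKer
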