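import Groth.Agent.Lib.DepthKer.Basic
import Mathlib.Algebra.Module.FinitePresentation
import Mathlib.RingTheory.Nakayama

/-!
# Reflexivity from depth two
-/

set_option autoImplicit false

universe u

namespace GrothLib.DepthKer

variable {A : Type u} [CommRing A] [IsNoetherianRing A]

theorem exists_regular (I : Ideal A) (M : Type u) [AddCommGroup M] [Module A M] [Module.Finite A M]
    (h : 1 ≤ LocCoh.idealDepth I M) : ∃ x ∈ I, IsSMulRegular M x := by
  by_cases hIM : I • (⊤ : Submodule A M) = ⊤
  · obtain ⟨r, hr, hrM⟩ := Submodule.exists_sub_one_mem_and_smul_eq_zero_of_fg_of_le_smul I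
      (⊤ : Submodule A M) Module.Finite.fg_top hIM.ge
    refine ⟨r - 1, hr, fun a b hab => ?_⟩
    simpa [sub_smul, hrM a trivial, hrM b trivial] using hab
  · obtain ⟨rs, h1, h2, h3⟩ := (GrothLib.Depth.le_idealDepth_iff_exists I hIM 1).1 (by exact_mod_cast h)
    obtain ⟨x, rfl⟩ := List.length_eq_one_iff.1 h1
    exact ⟨x, h2 x (by simp), (RingTheory.Sequence.isWeaklyRegular_singleton_iff M x).1 h3⟩

theorem exists_pow_smul_eq_zero (I : Ideal A) {M : Type u} [AddCommGroup M] [Module A M] (y : M)
    (h : ∀ p : PrimeSpectrum A, ¬ I ≤ p.asIdeal → ∃ c ∉ p.asIdeal, c • y = 0) :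
    ∃ k : ℕ, ∀ r ∈ I ^ k, r • y = 0 := by
  let J : Ideal A := LinearMap.ker (LinearMap.toSpanSingleton A M y)
  have hle : I ≤ J.radical := by
    rw [Ideal.radical_eq_sInf]
    refine le_sInf fun p hp => ?_
    by_contra hIp
    obtain ⟨c, hc, hcy⟩ := h ⟨p, hp.2⟩ hIp
    exact hc (hp.1 (by simpa [J] using hcy))
  obtain ⟨k, hk⟩ := Ideal.exists_pow_le_of_le_radical_of_fg hle (IsNoetherian.noetherian I)
  exact ⟨k, fun r hr => by simpa [J] using hk hr⟩

variable (G : Type u) [AddCommGroup G] [Module A G] [Module.Finite A G]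

/-- off `V(I)` the evaluation map is bijective up to torsion -/
theorem eval_locally_bijective (p : Ideal A) [p.IsPrime]
    (hp : Module.IsReflexive (Localization.AtPrime p) (LocalizedModule p.primeCompl G)) :
    (∀ g : G, Module.Dual.eval A G g = 0 → ∃ c ∉ p, c • g = 0) ∧
      ∀ ξ : Module.Dual A (Module.Dual A G), ∃ (c : A) (g : G), c ∉ p ∧ c • ξ = Module.Dual.eval A G g := by
  classical
  haveI : Module.FinitePresentation A G := Module.finitePresentation_of_finite A G
  let D := Module.Dual A G
  let Φ : D →ₗ[A] Module.Dual (Localization.AtPrime p) (LocalizedModule p.primeCompl G) :=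
    IsLocalizedModule.mapExtendScalars p.primeCompl (LocalizedModule.mkLinearMap p.primeCompl G)
      (Algebra.linearMap A (Localization.AtPrime p)) (Localization.AtPrime p)
  haveI hΦ : IsLocalizedModule p.primeCompl Φ :=
    Module.FinitePresentation.isLocalizedModule_mapExtendScalars _ _ _ _
  have happ : ∀ (φ : D) (g : G), Φ φ (LocalizedModule.mkLinearMap p.primeCompl G g) =
      algebraMap A (Localization.AtPrime p) (φ g) := fun φ g =>
    IsLocalizedModule.map_apply p.primeCompl (LocalizedModule.mkLinearMap p.primeCompl G)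
      (Algebra.linearMap A (Localization.AtPrime p)) φ g
  constructor
  · intro g hg
    have h0 : LocalizedModule.mkLinearMap p.primeCompl G g = 0 := by
      refine (Module.bijective_dual_eval (Localization.AtPrime p) _).1 ?_
      rw [map_zero]
      refine LinearMap.ext fun ψ => ?_
      obtain ⟨⟨φ, s⟩, hs⟩ := IsLocalizedModule.surj p.primeCompl Φ ψ
      have h1 := LinearMap.congr_fun hs (LocalizedModule.mkLinearMap p.primeCompl G g)
      rw [happ, show φ g = Module.Dual.eval A G g φ from rfl, hg, LinearMap.zero_apply, map_zero] at h1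
      change (s : A) • ψ (LocalizedModule.mkLinearMap p.primeCompl G g) = 0 at h1
      rw [Algebra.smul_def] at h1
      exact (IsLocalization.map_units (Localization.AtPrime p) s).mul_right_eq_zero.1 h1
    obtain ⟨c, hc⟩ := (IsLocalizedModule.eq_zero_iff p.primeCompl _).1 h0
    exact ⟨c, c.2, hc⟩
  · intro ξ
    have hu : ∀ s : p.primeCompl, IsUnit ((algebraMap A (Module.End A (Localization.AtPrime p))) s) :=
      IsLocalizedModule.map_units (Algebra.linearMap A (Localization.AtPrime p))
    let ξ' := IsLocalizedModule.lift p.primeCompl Φ ((Algebra.linearMap A (Localization.AtPrime p)) ∘ₗ ξ) hu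
    have hξ' : ∀ φ : D, ξ' (Φ φ) = algebraMap A (Localization.AtPrime p) (ξ φ) := fun φ =>
      IsLocalizedModule.lift_apply p.primeCompl Φ _ hu φ
    obtain ⟨z, hz⟩ := (Module.bijective_dual_eval (Localization.AtPrime p) (LocalizedModule p.primeCompl G)).2
      (ξ'.extendScalarsOfIsLocalization p.primeCompl (Localization.AtPrime p))
    obtain ⟨⟨g, s⟩, hgs⟩ := IsLocalizedModule.surj p.primeCompl (LocalizedModule.mkLinearMap p.primeCompl G) z
    have key : ∀ φ : D, ∃ c : p.primeCompl, (c : A) * (φ g) = c * ((s : A) * ξ φ) := by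
      intro φ
      refine IsLocalization.exists_of_eq (S := Localization.AtPrime p) ?_
      rw [← happ, ← hgs, map_mul, ← hξ']
      have h1 : Φ φ z = ξ' (Φ φ) := LinearMap.congr_fun hz (Φ φ)
      rw [← h1]
      show Φ φ ((s : A) • z) = _
      rw [LinearMap.map_smul_of_tower, Algebra.smul_def]
    haveI : Module.Finite A D := by
      obtain ⟨n, f, hf⟩ := Module.Finite.exists_fin' A G
      exact Module.Finite.of_injective f.dualMap (LinearMap.dualMap_injective_of_surjective hf)
    obtain ⟨S, hS⟩ := (Module.Finite.fg_top : (⊤ : Submodule A D).FG)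
    choose c hc using key
    let c0 : p.primeCompl := ∏ φ ∈ S, c φ
    refine ⟨(c0 : A) * s, (c0 : A) • g, (c0 * s).2, LinearMap.ext fun φ => ?_⟩
    have hle : Submodule.span A (S : Set D) ≤
        LinearMap.ker (((c0 : A) * s) • ξ - Module.Dual.eval A G ((c0 : A) • g)) := by
      refine Submodule.span_le.2 fun φ hφ => ?_
      simp only [SetLike.mem_coe, LinearMap.mem_ker, LinearMap.sub_apply, LinearMap.smul_apply, smul_eq_mul,
        Module.Dual.eval_apply, map_smul]
      obtain ⟨d, hd⟩ : ∃ d : A, (c0 : A) = d * c φ := ⟨((∏ x ∈ S.erase φ, c x : p.primeCompl) : A), by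
        rw [← Submonoid.coe_mul, Finset.prod_erase_mul S c hφ]⟩
      rw [hd]
      rw [show (Module.Dual.eval A G) g φ = φ g from rfl]
      linear_combination (-d) * hc φ
    have := hle (hS ▸ Submodule.mem_top : φ ∈ Submodule.span A (S : Set D))
    rw [LinearMap.mem_ker, LinearMap.sub_apply, sub_eq_zero] at this
    exact this

theorem isReflexive_of_idealDepth_two (I : Ideal A) (hA : 1 ≤ LocCoh.idealDepth I A)
    (hU : ∀ p : PrimeSpectrum A, ¬ I ≤ p.asIdeal →
      Module.IsReflexive (Localization.AtPrime p.asIdeal) (LocalizedModule p.asIdeal.primeCompl G))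
    (hG : 2 ≤ LocCoh.idealDepth I G) : Module.IsReflexive A G := by
  have hGA : 1 ≤ LocCoh.idealDepth I (G × A) := by
    simpa using le_of_extension I (LinearMap.inl A G A) (LinearMap.snd A G A) LinearMap.inl_injective
      LinearMap.snd_surjective (Function.Exact.inl_snd) 1
      (by simpa using le_trans (show (1 : ℕ∞) ≤ 2 by norm_num) hG) (by simpa using hA)
  obtain ⟨x, hxI, hx⟩ := exists_regular I (G × A) hGA
  have hxG : IsSMulRegular G x := fun a b h => (Prod.ext_iff.1 (hx (Prod.ext h rfl : x • (a, (0 : A)) = x • (b, 0)))).1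
  have hxA : IsSMulRegular A x := fun a b h => (Prod.ext_iff.1 (hx (Prod.ext rfl h : x • ((0 : G), a) = x • (0, b)))).2
  have hQ : 1 ≤ LocCoh.idealDepth I (QuotSMulTop x G) := by
    rw [← GrothLib.Depth.idealDepth_quotSMulTop_add_one I hxI hxG] at hG
    cases h : LocCoh.idealDepth I (QuotSMulTop x G) with
    | top => simp
    | coe n =>
      rw [h] at hG
      norm_cast at hG ⊢
      omega
  obtain ⟨z, hzI, hz⟩ := exists_regular I _ hQ
  constructor
  refine ⟨(injective_iff_map_eq_zero _).2 fun g hg => ?_, fun ξ => ?_⟩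
  · obtain ⟨k, hk⟩ := exists_pow_smul_eq_zero I g fun p hp =>
      (eval_locally_bijective G p.asIdeal (hU p hp)).1 g hg
    exact (hxG.pow k).right_eq_zero_of_smul (hk _ (Ideal.pow_mem_pow hxI k))
  · obtain ⟨k, hk⟩ := exists_pow_smul_eq_zero I (Submodule.Quotient.mk (p := LinearMap.range (Module.Dual.eval A G)) ξ)
      fun p hp => by
        obtain ⟨c, g, hc, hcg⟩ := (eval_locally_bijective G p.asIdeal (hU p hp)).2 ξ
        exact ⟨c, hc, (Submodule.Quotient.mk_eq_zero _).2 ⟨g, hcg.symm⟩⟩
    suffices H : ∀ (k : ℕ) (η : Module.Dual A (Module.Dual A G)),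
        (∀ r ∈ I ^ k, r • η ∈ LinearMap.range (Module.Dual.eval A G)) → η ∈ LinearMap.range (Module.Dual.eval A G) from
      H k ξ fun r hr => (Submodule.Quotient.mk_eq_zero _).1 (by rw [Submodule.Quotient.mk_smul]; exact hk r hr)
    intro k
    induction k with
    | zero => exact fun η h => by simpa using h 1 (by simp)
    | succ k ih =>
      intro η h
      refine ih η fun r hr => ?_
      have h1 : ∀ a ∈ I, a • (r • η) ∈ LinearMap.range (Module.Dual.eval A G) := fun a ha => by
        rw [smul_smul]
        exact h _ (by rw [pow_succ, mul_comm a r]; exact Ideal.mul_mem_mul hr ha)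
      obtain ⟨g0, hg0⟩ := h1 x hxI
      have hq : (Submodule.Quotient.mk g0 : QuotSMulTop x G) = 0 := by
        refine hz.right_eq_zero_of_smul ?_
        obtain ⟨g', hg'⟩ := h1 z hzI
        rw [← Submodule.Quotient.mk_smul, Submodule.Quotient.mk_eq_zero]
        refine ⟨g', trivial, ?_⟩
        show x • g' = z • g0
        rw [← sub_eq_zero]
        obtain ⟨k', hk'⟩ := exists_pow_smul_eq_zero I (x • g' - z • g0) fun p hp =>
          (eval_locally_bijective G p.asIdeal (hU p hp)).1 _ (by
            rw [map_sub, map_smul, map_smul, hg', hg0, smul_comm, sub_self])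
        exact (hxG.pow k').right_eq_zero_of_smul (hk' _ (Ideal.pow_mem_pow hxI k'))
      obtain ⟨g1, -, hg1⟩ := (Submodule.Quotient.mk_eq_zero _).1 hq
      refine ⟨g1, sub_eq_zero.1 (LinearMap.ext fun φ => hxA.right_eq_zero_of_smul ?_)⟩
      show x • ((Module.Dual.eval A G g1 - r • η) φ) = 0
      rw [← LinearMap.smul_apply, smul_sub, ← map_smul, ← hg0, show x • g1 = g0 from hg1, sub_self,
        LinearMap.zero_apply]

end GrothLib.DepthKer
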