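import Groth.Agent.Lib.DepthKer.DepthTwo
import Mathlib.RingTheory.Localization.Integer
import Mathlib.RingTheory.Localization.FractionRing

/-!
# Localizations of reflexive modules over domains
-/

set_option autoImplicit false

universe u

namespace GrothLib.DepthKer

theorem isReflexive_localized {A : Type u} [CommRing A] [IsDomain A] [IsNoetherianRing A] (G : Type u)
    [AddCommGroup G] [Module A G] [Module.Finite A G] [Module.IsReflexive A G] (p : Ideal A) [p.IsPrime] :
    Module.IsReflexive (Localization.AtPrime p) (LocalizedModule p.primeCompl G) := by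
  classical
  haveI : Module.FinitePresentation A G := Module.finitePresentation_of_finite A G
  let D := Module.Dual A G
  let Ap := Localization.AtPrime p
  let Φ : D →ₗ[A] Module.Dual Ap (LocalizedModule p.primeCompl G) :=
    IsLocalizedModule.mapExtendScalars p.primeCompl (LocalizedModule.mkLinearMap p.primeCompl G)
      (Algebra.linearMap A Ap) Ap
  haveI hΦ : IsLocalizedModule p.primeCompl Φ :=
    Module.FinitePresentation.isLocalizedModule_mapExtendScalars _ _ _ _
  have happ : ∀ (φ : D) (g : G), Φ φ (LocalizedModule.mkLinearMap p.primeCompl G g) =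
      algebraMap A Ap (φ g) := fun φ g =>
    IsLocalizedModule.map_apply p.primeCompl (LocalizedModule.mkLinearMap p.primeCompl G)
      (Algebra.linearMap A Ap) φ g
  have hle : p.primeCompl ≤ nonZeroDivisors A := p.primeCompl_le_nonZeroDivisors
  have hAinj : Function.Injective (algebraMap A Ap) := IsLocalization.injective Ap hle
  constructor
  constructor
  · rw [injective_iff_map_eq_zero]
    intro z hz
    obtain ⟨⟨g, s⟩, hgs⟩ := IsLocalizedModule.surj p.primeCompl (LocalizedModule.mkLinearMap p.primeCompl G) z
    have hg : g = 0 := by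
      refine (Module.bijective_dual_eval A G).1 ?_
      rw [map_zero]
      refine LinearMap.ext fun φ => hAinj ?_
      show algebraMap A Ap (φ g) = algebraMap A Ap ((0 : Module.Dual A D) φ)
      rw [← happ, ← hgs, LinearMap.zero_apply, map_zero]
      show Φ φ ((s : A) • z) = 0
      rw [LinearMap.map_smul_of_tower, show Φ φ z = Module.Dual.eval Ap _ z (Φ φ) from rfl, hz,
        LinearMap.zero_apply, smul_zero]
    change (s : A) • z = LocalizedModule.mkLinearMap p.primeCompl G g at hgs
    rw [hg, map_zero, ← algebraMap_smul Ap] at hgs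
    exact (IsLocalization.map_units Ap s).smul_left_cancel.1 (hgs.trans (smul_zero _).symm)
  · intro Ξ
    haveI : Module.Finite A D := by
      obtain ⟨n, f, hf⟩ := Module.Finite.exists_fin' A G
      exact Module.Finite.of_injective f.dualMap (LinearMap.dualMap_injective_of_surjective hf)
    obtain ⟨S, hS⟩ := (Module.Finite.fg_top : (⊤ : Submodule A D).FG)
    obtain ⟨t, ht⟩ := IsLocalization.exist_integer_multiples_of_finset p.primeCompl
      (S.image fun φ => Ξ (Φ φ))
    let ν : D →ₗ[A] Ap := (t : A) • ((Ξ.restrictScalars A) ∘ₗ Φ)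
    have hν : ∀ φ, ν φ ∈ LinearMap.range (Algebra.linearMap A Ap) := by
      intro φ
      have hφ : φ ∈ Submodule.span A (S : Set D) := hS ▸ Submodule.mem_top
      induction hφ using Submodule.span_induction with
      | mem w hw => exact ht _ (Finset.mem_image_of_mem _ hw)
      | zero => simp
      | add a b _ _ ha hb => rw [map_add]; exact add_mem ha hb
      | smul c a _ ha => rw [map_smul]; exact Submodule.smul_mem _ c ha
    let e := LinearEquiv.ofInjective (Algebra.linearMap A Ap) hAinj
    let ξ : Module.Dual A D := e.symm.toLinearMap ∘ₗ ν.codRestrict _ hν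
    have hξ : ∀ φ, algebraMap A Ap (ξ φ) = ν φ := fun φ =>
      congrArg Subtype.val (e.apply_symm_apply ⟨ν φ, hν φ⟩)
    obtain ⟨g, hg⟩ := (Module.bijective_dual_eval A G).2 ξ
    refine ⟨IsLocalization.mk' Ap 1 t • LocalizedModule.mkLinearMap p.primeCompl G g, LinearMap.ext fun Ψ => ?_⟩
    obtain ⟨⟨φ, s⟩, hs⟩ := IsLocalizedModule.surj p.primeCompl Φ Ψ
    refine (IsLocalization.map_units Ap s).smul_left_cancel.1 ?_
    rw [algebraMap_smul, algebraMap_smul, ← LinearMap.map_smul_of_tower Ξ, ← LinearMap.map_smul_of_tower
      (Module.Dual.eval Ap (LocalizedModule p.primeCompl G) _)]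
    change (s : A) • Ψ = Φ φ at hs
    rw [hs, Module.Dual.eval_apply, map_smul, happ, show φ g = ξ φ from LinearMap.congr_fun hg φ, hξ, smul_eq_mul]
    show IsLocalization.mk' Ap 1 t * ((t : A) • Ξ (Φ φ)) = Ξ (Φ φ)
    rw [Algebra.smul_def, ← mul_assoc, IsLocalization.mk'_spec, map_one, one_mul]

end GrothLib.DepthKer
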